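import Mathlib
import Groth.Prelude.Def_Magnet2
import Groth.Agent.H91.MagnetComap

/-!
# Directed unions of magnets: the diagrams (helper91, interface for the S18290 squad)
-/

set_option autoImplicit false
set_option maxHeartbeats 400000
universe u
open CategoryTheory CategoryTheory.Limits MonoidalCategory CartesianMonoidalCategory MonObj AlgebraicGeometry Opposite
open Magnet

namespace Groth.Agent.H91.DirAttr

variable {M : Type} [AddCommMonoid M] {J : Type} [Preorder J]
  (N : J → AddSubmonoid M) (hN : Monotone N)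

/-- `ℤ' = ULift ℤ` -/
abbrev Z' : Type u := ULift.{u} ℤ

/-- inclusion `N i → ⨆ N` -/
def inc (i : J) : ↥(N i) →+ ↥(⨆ i, N i) := AddSubmonoid.inclusion (le_iSup N i)

/-- inclusion `N i → N j` -/
def incT {i j : J} (h : i ≤ j) : ↥(N i) →+ ↥(N j) := AddSubmonoid.inclusion (hN h)

theorem incT_refl (i : J) : incT N hN (le_refl i) = AddMonoidHom.id _ := rfl

theorem incT_trans {i j k : J} (h1 : i ≤ j) (h2 : j ≤ k) :
    (incT N hN h2).comp (incT N hN h1) = incT N hN (h1.trans h2) := rfl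

theorem inc_incT {i j : J} (h : i ≤ j) : (inc N j).comp (incT N hN h) = inc N i := rfl

/-- the diagram `i ↦ A(N i)` over `Spec ℤ'` -/
noncomputable def diagZ : Jᵒᵖ ⥤ Over (Spec (CommRingCat.of Z'.{u})) where
  obj i := AMon Z'.{u} ↥(N i.unop)
  map f := AMon.map Z'.{u} (incT N hN (leOfHom f.unop))
  map_id i := Groth.Agent.H91.MagnetComap.AMon_map_id _ _
  map_comp f g := by
    rw [← AMon.map_comp]
    rfl

/-- the cone with vertex `A(⨆ N)` over `Spec ℤ'` -/
noncomputable def coneZ : Cone (diagZ.{u} N hN) where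
  pt := AMon Z'.{u} ↥(⨆ i, N i)
  π :=
    { app := fun i => AMon.map Z'.{u} (inc N i.unop)
      naturality := fun i j f => by
        dsimp only [diagZ, Functor.const_obj_obj, Functor.const_obj_map]
        rw [Category.id_comp, ← AMon.map_comp]
        rfl }

variable (S : Scheme.{u})

/-- the structure map `S ⟶ Spec ℤ'` -/
noncomputable abbrev toZ : S ⟶ Spec (CommRingCat.of Z'.{u}) :=
  Limits.IsTerminal.from specULiftZIsTerminal S

/-- the diagram `i ↦ A(N i)_S` -/
noncomputable def diagS : Jᵒᵖ ⥤ Over S := diagZ.{u} N hN ⋙ Over.pullback (toZ S)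

/-- the cone with vertex `A(⨆ N)_S` -/
noncomputable def coneS : Cone (diagS N hN S) := (Over.pullback (toZ S)).mapCone (coneZ.{u} N hN)

theorem coneS_pt : (coneS N hN S).pt = AMonS S ↥(⨆ i, N i) := rfl
theorem diagS_obj (i : Jᵒᵖ) : (diagS N hN S).obj i = AMonS S ↥(N i.unop) := rfl
theorem diagS_map {i j : Jᵒᵖ} (f : i ⟶ j) :
    (diagS N hN S).map f = AMonS.map S (incT N hN (leOfHom f.unop)) := rfl
theorem coneS_π (i : Jᵒᵖ) : (coneS N hN S).π.app i = AMonS.map S (inc N i.unop) := rfl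

/-- the diagram `i ↦ A(N i)_S ⊗ Y` -/
noncomputable def diagY (Y : Over S) : Jᵒᵖ ⥤ Over S := diagS N hN S ⋙ tensorRight Y

/-- the cone with vertex `A(⨆ N)_S ⊗ Y` -/
noncomputable def coneY (Y : Over S) : Cone (diagY N hN S Y) := (tensorRight Y).mapCone (coneS N hN S)

theorem coneY_pt (Y : Over S) : (coneY N hN S Y).pt = AMonS S ↥(⨆ i, N i) ⊗ Y := rfl
theorem diagY_obj (Y : Over S) (i : Jᵒᵖ) : (diagY N hN S Y).obj i = AMonS S ↥(N i.unop) ⊗ Y := rfl
theorem diagY_map (Y : Over S) {i j : Jᵒᵖ} (f : i ⟶ j) :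
    (diagY N hN S Y).map f = AMonS.map S (incT N hN (leOfHom f.unop)) ▷ Y := rfl
theorem coneY_π (Y : Over S) (i : Jᵒᵖ) :
    (coneY N hN S Y).π.app i = AMonS.map S (inc N i.unop) ▷ Y := rfl

end Groth.Agent.H91.DirAttr
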